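import Cfsg.Agent.TwFi.Cert
import Cfsg.Agent.Chev.Tw.AutE6
import Cfsg.Agent.Chev.Tw.Inst
import Cfsg.Prelude.Def_KGroupFacts

/-!
Three classes of copies of a group containing the eight involutions.
-/

set_option autoImplicit false

namespace Cfsg.Lib.TwFi

open Cfsg.Lie Cfsg.Lib.PrimeGraph Cfsg.Lib.Chev

/-- Squares of automorphisms are inner. -/
def SqInner (S : Type*) [Group S] : Prop := ∀ β : MulAut S, ∃ h : S, ∀ x, β (β x) = h * x * h⁻¹

theorem sqInner_of_card {S : Type*} [Group S] (h : Nat.card (Cfsg.Out S) = 2) : SqInner S := fun β => by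
  have h1 : (QuotientGroup.mk β : Cfsg.Out S) ^ Nat.card (Cfsg.Out S) = 1 := pow_card_eq_one'
  rw [h, ← QuotientGroup.mk_pow, QuotientGroup.eq_one_iff] at h1
  obtain ⟨s, hs⟩ := h1
  exact ⟨s, fun x => by rw [← MulAut.conj_apply, hs, sq, MulAut.mul_apply]⟩

theorem SqInner.of_equiv {S T : Type*} [Group S] [Group T] (e : S ≃* T) (h : SqInner T) : SqInner S := fun β => by
  obtain ⟨s, hs⟩ := h ((e.symm.trans β).trans e)
  refine ⟨e.symm s, fun x => e.injective ?_⟩
  simpa using hs (e x)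

variable {K : Type*} [Field K] [Fintype K]

theorem exists_hom (hK : Fintype.card K = 4) : Nonempty (KQuad →+* K) := by
  obtain ⟨p, hp⟩ := CharP.exists K
  haveI := hp
  obtain ⟨n, hp', hn⟩ := FiniteField.card K p
  have h2 : p ∣ 2 ^ 2 := by
    rw [show (2 : ℕ) ^ 2 = 4 from rfl, ← hK, hn]
    exact dvd_pow_self p n.ne_zero
  obtain rfl : p = 2 := (Nat.prime_dvd_prime_iff_eq hp' Nat.prime_two).1 (hp'.dvd_of_dvd_pow h2)
  exact ⟨(FiniteField.ringEquivOfCardEq (KQuad.card_eq.trans hK.symm)).toRingHom⟩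

theorem scalar_gl (σ : KQuad →+* K) (C : GL chevE6.Idx K)
    (hC : ∀ k, 1 ≤ k → k < 9 → C * mapI σ (invU k) = mapI σ (invU k) * C) (y : GL chevE6.Idx K) :
    C * y = y * C := by
  obtain ⟨l, hl⟩ := scalar_of_comm σ (C := (C : Matrix chevE6.Idx chevE6.Idx K).submatrix eqI.symm eqI.symm)
    fun k h1 h9 => by
      have e := congrArg (fun g : GL chevE6.Idx K => (g : Matrix chevE6.Idx chevE6.Idx K).submatrix eqI.symm eqI.symm)
        (hC k h1 h9)
      simp only [Units.val_mul] at e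
      rw [← Matrix.submatrix_mul_equiv _ _ eqI.symm eqI.symm eqI.symm,
        ← Matrix.submatrix_mul_equiv _ _ eqI.symm eqI.symm eqI.symm] at e
      have hm : (mapI σ (invU k) : Matrix chevE6.Idx chevE6.Idx K).submatrix eqI.symm eqI.symm = matK σ (invP k) := by
        show ((invU k : Matrix chevE6.Idx chevE6.Idx KQuad).map σ).submatrix eqI.symm eqI.symm = _
        rw [coe_invU h9]
        ext i j
        simp [matK, toI]
      rwa [hm] at e
  have hs : (C : Matrix chevE6.Idx chevE6.Idx K) = l • 1 := by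
    ext a b
    have e := congrFun (congrFun hl (eqI a)) (eqI b)
    simpa [Matrix.one_apply] using e
  exact Units.ext (by rw [Units.val_mul, Units.val_mul, hs, Matrix.smul_mul, Matrix.mul_smul, one_mul, mul_one])

/-- Conjugate twists of the image by diagonal automorphisms differ by a twist with inner square. -/
theorem core {M C S : Type*} [Group M] [CommGroup C] [Group S] {N : Subgroup M} (D : C →* MulAut N) (δ : C → M)
    (hD : ∀ c y, (D c y).1 = δ c * y.1 * (δ c)⁻¹) (φ : S →* N) (hφ : Function.Injective φ) (hS : SqInner S)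
    (G : Set M) (hG : ∀ z ∈ G, ∃ x, (φ x).1 = z)
    (hsc : ∀ m : M, (∀ z ∈ G, m * z = z * m) → ∀ y ∈ N, m * y = y * m) {ci cj : C} {g : N}
    (he : (φ.range.map (D ci).toMonoidHom).map (MulAut.conj g).toMonoidHom = φ.range.map (D cj).toMonoidHom) :
    D (cj⁻¹ * ci * (cj⁻¹ * ci)) ∈ Cfsg.Inn N := by
  set d := cj⁻¹ * ci with hd
  set g' := (D cj)⁻¹ g with hg'
  set ψ : MulAut N := MulAut.conj g' * D d with hψ
  have hψe : ψ = (D cj)⁻¹ * MulAut.conj g * D ci := by
    have hca : (D cj)⁻¹ * MulAut.conj g * D cj = MulAut.conj g' := MulEquiv.ext fun y => by simp [hg']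
    rw [hψ, ← hca, hd, map_mul, map_inv]
    group
  have hmap : φ.range.map ψ.toMonoidHom = φ.range := by
    refine le_antisymm ?_ ?_
    · rintro _ ⟨x, hx, rfl⟩
      have h1 : MulAut.conj g (D ci x) ∈ φ.range.map (D cj).toMonoidHom := he ▸ ⟨_, ⟨x, hx, rfl⟩, rfl⟩
      obtain ⟨y, hy, ey⟩ := h1
      show ψ x ∈ φ.range
      rw [hψe, show ((D cj)⁻¹ * MulAut.conj g * D ci) x = (D cj)⁻¹ (MulAut.conj g (D ci x)) from rfl, ← ey]
      simpa using hy
    · intro x hx
      have h1 : D cj x ∈ (φ.range.map (D ci).toMonoidHom).map (MulAut.conj g).toMonoidHom :=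
        he.symm ▸ ⟨x, hx, rfl⟩
      obtain ⟨_, ⟨y, hy, rfl⟩, ey⟩ := h1
      refine ⟨y, hy, ?_⟩
      show ψ y = x
      rw [hψe, show ((D cj)⁻¹ * MulAut.conj g * D ci) y = (D cj)⁻¹ (MulAut.conj g (D ci y)) from rfl]
      exact (D cj).symm_apply_eq.2 ey
  let r := MonoidHom.ofInjective hφ
  let β : MulAut S := r.trans (((ψ.subgroupMap φ.range).trans (MulEquiv.subgroupCongr hmap)).trans r.symm)
  have hβ : ∀ x, φ (β x) = ψ (φ x) := fun x => by
    have := congrArg Subtype.val (r.apply_symm_apply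
      (((ψ.subgroupMap φ.range).trans (MulEquiv.subgroupCongr hmap)) (r x)))
    exact this
  obtain ⟨h, hh⟩ := hS β
  have hψ2 : ∀ x, ψ (ψ (φ x)) = φ h * φ x * (φ h)⁻¹ := fun x => by
    rw [← hβ, ← hβ, hh, map_mul, map_mul, map_inv]
  have hd2 : ψ * ψ = MulAut.conj (g' * D d g') * D (d * d) := by
    have hca : D d * MulAut.conj g' = MulAut.conj (D d g') * D d := MulEquiv.ext fun y => by simp
    rw [hψ, map_mul MulAut.conj g', map_mul D d d]
    calc MulAut.conj g' * D d * (MulAut.conj g' * D d) = MulAut.conj g' * (D d * MulAut.conj g') * D d := by group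
      _ = _ := by rw [hca]; group
  set m : M := (φ h).1⁻¹ * ((g' * D d g').1 * δ (d * d)) with hm
  have hval : ∀ y : N, (((MulAut.conj (φ h))⁻¹ * (ψ * ψ)) y).1 = m * y.1 * m⁻¹ := fun y => by
    rw [hd2]
    show ((φ h)⁻¹ * ((g' * D d g') * D (d * d) y * (g' * D d g')⁻¹) * φ h).1 = _
    simp only [Subgroup.coe_mul, Subgroup.coe_inv, hD, hm]
    group
  have hfix : ∀ x : S, ((MulAut.conj (φ h))⁻¹ * (ψ * ψ)) (φ x) = φ x := fun x => by
    rw [MulAut.mul_apply, MulAut.mul_apply, hψ2]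
    exact (MulAut.conj (φ h)).symm_apply_apply (φ x)
  have hone : (MulAut.conj (φ h))⁻¹ * (ψ * ψ) = 1 := by
    refine MulEquiv.ext fun y => Subtype.ext ?_
    rw [hval, MulAut.one_apply, hsc m (fun z hz => ?_) y.1 y.2, mul_inv_cancel_right]
    obtain ⟨x, rfl⟩ := hG z hz
    exact mul_inv_eq_iff_eq_mul.1 ((hval (φ x)).symm.trans (congrArg Subtype.val (hfix x)))
  refine ⟨(g' * D d g')⁻¹ * φ h, ?_⟩
  rw [map_mul, map_inv, inv_mul_eq_iff_eq_mul, ← hd2]
  exact inv_mul_eq_one.1 hone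

/-- Three classes of copies. -/
theorem three_classes (hK : Fintype.card K = 4) (σ : KQuad →+* K) {S : Type*} [Group S] (f : S →* GL chevE6.Idx K)
    (hinj : Function.Injective f) (hmem : ∀ x, f x ∈ twistedE6 K 2)
    (hgen : ∀ k, 1 ≤ k → k < 9 → mapI σ (invU k) ∈ f.range) (hS : SqInner S) :
    ∃ H : Fin 3 → Subgroup (twistedE6 K 2),
      (∀ i, Nonempty ((H i) ≃* S)) ∧
      (∀ i j, i ≠ j → ∀ g : (twistedE6 K 2), (H i).map (MulAut.conj g).toMonoidHom ≠ H j) := by
  obtain ⟨X, hX⟩ := E6.exists_tw (K := K) (q := 2) Nat.prime_two.isPrimePow (by rw [hK]; norm_num)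
  have hG := E6.G1_eq X
  rw [hX] at hG
  revert hmem
  rw [← hG]
  intro hmem
  let φ : S →* ↥X.G1 := f.codRestrict X.G1 hmem
  have hφ : Function.Injective φ := fun a b e => hinj (congrArg Subtype.val e)
  have h3 : Nat.card ↥(E6.dCls X).range = 3 := by rw [E6.card_dCls X, hX]; decide
  haveI : Finite ↥(E6.dCls X).range := Nat.finite_of_card_ne_zero (by omega)
  let e : Fin 3 ≃ ↥(E6.dCls X).range := (Finite.equivFinOfCardEq h3).symm
  choose c hc using fun i => (e i).2
  refine ⟨fun i => φ.range.map (X.dAut E6.okc (c i)).toMonoidHom, fun i => ?_,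
    fun i j hij g he => hij (e.injective (Subtype.ext ?_))⟩
  · exact ⟨(φ.range.equivMapOfInjective _ (X.dAut E6.okc (c i)).injective).symm.trans
      (MonoidHom.ofInjective hφ).symm⟩
  rw [← hc i, ← hc j]
  have hinn := core (X.dAut E6.okc) (fun c => delta chevE6 E6.htTab c.1) (fun c y => X.dAut_val E6.okc c y) φ hφ hS
    {z | ∃ k, 1 ≤ k ∧ k < 9 ∧ z = mapI σ (invU k)} (fun z ⟨k, h1, h9, hz⟩ => hz ▸ hgen k h1 h9)
    (fun m hm y _ => scalar_gl σ m (fun k h1 h9 => hm _ ⟨k, h1, h9, rfl⟩) y) he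
  set d := (c j)⁻¹ * c i with hd
  have h1 : E6.dCls X d * E6.dCls X d = 1 := by
    rw [← map_mul]
    exact (QuotientGroup.eq_one_iff _).2 hinn
  have h2 : (⟨E6.dCls X d, d, rfl⟩ : ↥(E6.dCls X).range) ^ 3 = 1 := h3 ▸ pow_card_eq_one'
  have h4 : E6.dCls X d ^ 3 = 1 := congrArg Subtype.val h2
  rw [pow_succ, sq, h1, one_mul, hd, map_mul, map_inv, inv_mul_eq_one] at h4
  exact h4.symm

end Cfsg.Lib.TwFi
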