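import Cfsg.Agent.TwFi.GenData
import Cfsg.Prelude.Def_LieTwisted

/-!
The packed root elements are the root elements.
-/

set_option autoImplicit false

namespace Cfsg.Lib.TwFi

open Cfsg.Lie Cfsg.Lib.PrimeGraph

/-- The numbering of the coordinates. -/
def eqI : chevE6.Idx ≃ Fin 78 := finSumFinEquiv

/-- An entry of a packed matrix. -/
def ent (A : P) (i j : Fin 78) : KQuad :=
  bit (A.1.testBit (78 * i.val + j.val)) + om * bit (A.2.testBit (78 * i.val + j.val))

theorem base0_ok : ∀ i j : Fin 78,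
    chevE6.xMat KQuad ⟨46, by decide⟩ (KQuad.ofCode 1) (eqI.symm i) (eqI.symm j) = ent base0 i j := by
  decide +kernel

theorem base1_ok : ∀ i j : Fin 78,
    chevE6.xMat KQuad ⟨25, by decide⟩ (KQuad.ofCode 1) (eqI.symm i) (eqI.symm j) = ent base1 i j := by
  decide +kernel

theorem base2_ok : ∀ i j : Fin 78,
    chevE6.xMat KQuad ⟨39, by decide⟩ (KQuad.ofCode 1) (eqI.symm i) (eqI.symm j) = ent base2 i j := by
  decide +kernel

theorem base3_ok : ∀ i j : Fin 78,
    chevE6.xMat KQuad ⟨32, by decide⟩ (KQuad.ofCode 1) (eqI.symm i) (eqI.symm j) = ent base3 i j := by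
  decide +kernel

theorem base4_ok : ∀ i j : Fin 78,
    chevE6.xMat KQuad ⟨56, by decide⟩ (KQuad.ofCode 1) (eqI.symm i) (eqI.symm j) = ent base4 i j := by
  decide +kernel

theorem base5_ok : ∀ i j : Fin 78,
    chevE6.xMat KQuad ⟨36, by decide⟩ (KQuad.ofCode 1) (eqI.symm i) (eqI.symm j) = ent base5 i j := by
  decide +kernel

theorem base6_ok : ∀ i j : Fin 78,
    chevE6.xMat KQuad ⟨56, by decide⟩ (KQuad.ofCode 2) (eqI.symm i) (eqI.symm j) = ent base6 i j := by
  decide +kernel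

theorem base7_ok : ∀ i j : Fin 78,
    chevE6.xMat KQuad ⟨36, by decide⟩ (KQuad.ofCode 3) (eqI.symm i) (eqI.symm j) = ent base7 i j := by
  decide +kernel

theorem base8_ok : ∀ i j : Fin 78,
    chevE6.xMat KQuad ⟨15, by decide⟩ (KQuad.ofCode 1) (eqI.symm i) (eqI.symm j) = ent base8 i j := by
  decide +kernel

theorem base9_ok : ∀ i j : Fin 78,
    chevE6.xMat KQuad ⟨35, by decide⟩ (KQuad.ofCode 1) (eqI.symm i) (eqI.symm j) = ent base9 i j := by
  decide +kernel

theorem base10_ok : ∀ i j : Fin 78,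
    chevE6.xMat KQuad ⟨15, by decide⟩ (KQuad.ofCode 2) (eqI.symm i) (eqI.symm j) = ent base10 i j := by
  decide +kernel

theorem base11_ok : ∀ i j : Fin 78,
    chevE6.xMat KQuad ⟨35, by decide⟩ (KQuad.ofCode 3) (eqI.symm i) (eqI.symm j) = ent base11 i j := by
  decide +kernel

theorem base12_ok : ∀ i j : Fin 78,
    chevE6.xMat KQuad ⟨42, by decide⟩ (KQuad.ofCode 1) (eqI.symm i) (eqI.symm j) = ent base12 i j := by
  decide +kernel

theorem base13_ok : ∀ i j : Fin 78,
    chevE6.xMat KQuad ⟨37, by decide⟩ (KQuad.ofCode 1) (eqI.symm i) (eqI.symm j) = ent base13 i j := by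
  decide +kernel

theorem base14_ok : ∀ i j : Fin 78,
    chevE6.xMat KQuad ⟨42, by decide⟩ (KQuad.ofCode 2) (eqI.symm i) (eqI.symm j) = ent base14 i j := by
  decide +kernel

theorem base15_ok : ∀ i j : Fin 78,
    chevE6.xMat KQuad ⟨37, by decide⟩ (KQuad.ofCode 3) (eqI.symm i) (eqI.symm j) = ent base15 i j := by
  decide +kernel

theorem base16_ok : ∀ i j : Fin 78,
    chevE6.xMat KQuad ⟨29, by decide⟩ (KQuad.ofCode 1) (eqI.symm i) (eqI.symm j) = ent base16 i j := by
  decide +kernel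

theorem base17_ok : ∀ i j : Fin 78,
    chevE6.xMat KQuad ⟨34, by decide⟩ (KQuad.ofCode 1) (eqI.symm i) (eqI.symm j) = ent base17 i j := by
  decide +kernel

theorem base18_ok : ∀ i j : Fin 78,
    chevE6.xMat KQuad ⟨29, by decide⟩ (KQuad.ofCode 2) (eqI.symm i) (eqI.symm j) = ent base18 i j := by
  decide +kernel

theorem base19_ok : ∀ i j : Fin 78,
    chevE6.xMat KQuad ⟨34, by decide⟩ (KQuad.ofCode 3) (eqI.symm i) (eqI.symm j) = ent base19 i j := by
  decide +kernel

end Cfsg.Lib.TwFi
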