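import Cfsg.Agent.TwFi.Hom

/-!
Eight of the involutions generate an absolutely irreducible group.
-/

set_option autoImplicit false

namespace Cfsg.Lib.TwFi

open Cfsg.Lie Cfsg.Lib.PrimeGraph
open scoped Matrix

/-- The combination of two words with a kernel of dimension one. -/
def cA' : P := pa (pa (prodP (wordA1.map invP)) (pm (0, one.1) (prodP (wordA2.map invP)))) one

/-- The matrix unit of the first coordinate. -/
def e00 : P := (1, 0)

theorem cert_ok : (peq cA' cA && peq (pm cA cV) (0, 0) && peq (pm cL cA) (pa one (pm cV cU)) &&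
    peq (pm cV e00) cV && peq (pm cB e00) cV && peq (pm cBi cB) one && peq (pm cB cBi) one) = true := by
  decide +kernel

theorem tree_ok : (List.range 77).all (fun j =>
    let a := tree.getD j (0, 0)
    decide (1 ≤ a.1 ∧ a.1 < 9 ∧ a.2 ≤ j) &&
      (List.range 78).all fun i =>
        let A := pm (invP a.1) cB
        (A.1.testBit (78 * i + a.2) == cB.1.testBit (78 * i + (j + 1))) &&
          (A.2.testBit (78 * i + a.2) == cB.2.testBit (78 * i + (j + 1)))) = true := by
  decide +kernel

theorem words_A : (wordA1 ++ wordA2).all (fun l => decide (1 ≤ l ∧ l < 9)) = true := by decide +kernel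

theorem e00_bits : ∀ i j : Fin 78, e00.1.testBit (78 * i.val + j.val) = decide (i = 0 ∧ j = 0) := by decide +kernel

theorem mat_zero : mat (0, 0) = 0 := by
  ext i j
  simp [mat, pl, bit]

theorem mat_apply (A : P) (i j : Fin 78) : mat A i j = ent A i j := rfl

theorem mat_e00 (i j : Fin 78) : mat e00 i j = if i = 0 ∧ j = 0 then 1 else 0 := by
  rw [mat_apply, ent, e00_bits i j]
  simp [bit, e00]

theorem mat_omega : mat (0, one.1) = om • (1 : Matrix (Fin 78) (Fin 78) KQuad) := by
  have h : mat (0, one.1) = pl 0 + om • pl one.1 := rfl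
  have h0 : pl 0 = 0 := by ext i j; simp [pl, bit]
  have h1 : mat one = pl one.1 + om • pl one.2 := rfl
  rw [one_bits.2, h0, smul_zero, add_zero, mat_one] at h1
  rw [h, h0, zero_add, ← h1]

attribute [local irreducible] one pm pa prodP invP cA cL cB cBi cV cU

variable {K : Type*} [Field K] (σ : KQuad →+* K)

/-- The numbered matrix over the field. -/
def matK (A : P) : Matrix (Fin 78) (Fin 78) K := (mat A).map σ

theorem matK_pm (A B : P) : matK σ (pm A B) = matK σ A * matK σ B := by rw [matK, mat_pm, Matrix.map_mul]; rfl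

theorem matK_pa (A B : P) : matK σ (pa A B) = matK σ A + matK σ B := by
  rw [matK, mat_pa, Matrix.map_add _ (map_add σ)]; rfl

theorem matK_one : matK σ one = 1 := by rw [matK, mat_one, Matrix.map_one _ (map_zero σ) (map_one σ)]

/-- A matrix commuting with the eight involutions is scalar. -/
theorem scalar_of_comm {C : Matrix (Fin 78) (Fin 78) K}
    (hC : ∀ k, 1 ≤ k → k < 9 → C * matK σ (invP k) = matK σ (invP k) * C) : ∃ l : K, C = l • 1 := by
  have hok := cert_ok
  simp only [Bool.and_eq_true] at hok
  obtain ⟨⟨⟨⟨⟨⟨hA, hAV⟩, hLA⟩, hVe⟩, hBe⟩, hBiB⟩, hBBi⟩ := hok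
  have m : ∀ {A B : P}, peq A B = true → matK σ A = matK σ B := fun h => by rw [matK, mat_of_peq h]; rfl
  have hw : ∀ l : List ℕ, (∀ n ∈ l, 1 ≤ n ∧ n < 9) → Commute C (matK σ (prodP (l.map invP))) := by
    intro l
    induction l with
    | nil => intro _; rw [List.map_nil, prodP, matK_one]; exact Commute.one_right _
    | cons a l ih =>
      intro h
      rw [List.map_cons, prodP, matK_pm]
      exact Commute.mul_right (hC a (h a List.mem_cons_self).1 (h a List.mem_cons_self).2)
        (ih fun n hn => h n (List.mem_cons_of_mem _ hn))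
  have hwA : ∀ n ∈ wordA1 ++ wordA2, 1 ≤ n ∧ n < 9 := fun n hn => decide_eq_true_eq.mp (List.all_eq_true.1 words_A n hn)
  have hCA : Commute C (matK σ cA) := by
    rw [← m hA, cA', matK_pa, matK_pa, matK_pm, matK_one]
    have hs : matK σ (0, one.1) = σ om • (1 : Matrix (Fin 78) (Fin 78) K) := by
      ext i j
      rw [matK, Matrix.map_apply, mat_omega, Matrix.smul_apply, Matrix.smul_apply, smul_eq_mul, smul_eq_mul, map_mul]
      rcases eq_or_ne i j with rfl | h
      · simp
      · simp [Matrix.one_apply_ne h]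
    refine ((hw _ fun n hn => hwA n (List.mem_append_left _ hn)).add_right (Commute.mul_right ?_
      (hw _ fun n hn => hwA n (List.mem_append_right _ hn)))).add_right (Commute.one_right _)
    rw [hs]
    exact (Commute.one_right C).smul_right _
  -- the kernel of the combination is one line
  set V := matK σ cV with hV
  have hN : C * V = V * (matK σ cU * (C * V)) := by
    have h0 : matK σ cA * V = 0 := by
      rw [hV, ← matK_pm, m hAV, matK, mat_zero, Matrix.map_zero _ (map_zero σ)]
    have h1 : matK σ cL * matK σ cA = 1 + V * matK σ cU := by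
      rw [hV, ← matK_pm, m hLA, matK_pa, matK_one, matK_pm]
    have h2 : matK σ cL * matK σ cA * (C * V) = 0 := by
      rw [mul_assoc, ← mul_assoc _ C, ← hCA.eq, mul_assoc C, h0, mul_zero, mul_zero]
    rw [h1, add_mul, one_mul] at h2
    haveI : CharP K 2 := charP_of_injective_ringHom σ.injective 2
    rw [← mul_assoc V]
    refine Matrix.ext fun i j => ?_
    have := congrFun (congrFun h2 i) j
    rw [Matrix.add_apply, Matrix.zero_apply] at this
    exact CharTwo.add_eq_zero.1 this
  set l : K := (matK σ cU * (C * V)) 0 0 with hl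
  have he : ∀ i j, matK σ e00 i j = if i = 0 ∧ j = 0 then 1 else 0 := fun i j => by
    rw [matK, Matrix.map_apply, mat_e00]
    split <;> simp
  have hB0 : ∀ i, (C * matK σ cB) i 0 = l * matK σ cB i 0 := by
    intro i
    have hcol : ∀ (M : Matrix (Fin 78) (Fin 78) K) (r s : Fin 78),
        (M * matK σ e00) r s = if s = 0 then M r 0 else 0 := fun M r s => by
      rw [Matrix.mul_apply, Finset.sum_eq_single (0 : Fin 78)] <;> simp +contextual [he]
    have hBV : ∀ r, V r 0 = matK σ cB r 0 := fun r => by
      rw [hV, ← m hBe, matK_pm, hcol, if_pos rfl]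
    have hV0 : ∀ r s, s ≠ 0 → V r s = 0 := fun r s hs => by
      rw [hV, ← m hVe, matK_pm, hcol, if_neg hs]
    calc (C * matK σ cB) i 0 = (C * V) i 0 := by simp only [Matrix.mul_apply, hBV]
      _ = (V * (matK σ cU * (C * V))) i 0 := by rw [← hN]
      _ = V i 0 * l := by
        rw [Matrix.mul_apply, Finset.sum_eq_single (0 : Fin 78) (fun b _ hb => by rw [hV0 i b hb, zero_mul])
          (fun h => absurd (Finset.mem_univ _) h)]
      _ = l * matK σ cB i 0 := by rw [hBV, mul_comm]
  have hcols : ∀ n (hn : n < 78), ∀ i, (C * matK σ cB) i ⟨n, hn⟩ = l * matK σ cB i ⟨n, hn⟩ := by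
    intro n
    induction n using Nat.strong_induction_on with
    | _ n ih =>
      intro hn i
      rcases n with _ | j
      · exact hB0 i
      have ht := List.all_eq_true.1 tree_ok j (List.mem_range.2 (by omega))
      simp only [Bool.and_eq_true, decide_eq_true_eq, List.all_eq_true, List.mem_range, beq_iff_eq] at ht
      obtain ⟨⟨hk1, hk9, hp⟩, hbits⟩ := ht
      set k := (tree.getD j (0, 0)).1
      set p := (tree.getD j (0, 0)).2
      have hp78 : p < 78 := by omega
      have hcol : ∀ r, matK σ cB r ⟨j + 1, hn⟩ = (matK σ (invP k) * matK σ cB) r ⟨p, hp78⟩ := fun r => by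
        rw [← matK_pm, matK, matK, Matrix.map_apply, Matrix.map_apply, mat_apply, mat_apply, ent, ent,
          (hbits r.val r.isLt).1, (hbits r.val r.isLt).2]
      calc (C * matK σ cB) i ⟨j + 1, hn⟩ = (C * (matK σ (invP k) * matK σ cB)) i ⟨p, hp78⟩ := by
            simp only [Matrix.mul_apply (M := C), hcol]
        _ = (matK σ (invP k) * (C * matK σ cB)) i ⟨p, hp78⟩ := by rw [← mul_assoc, hC k hk1 hk9, mul_assoc]
        _ = l * (matK σ (invP k) * matK σ cB) i ⟨p, hp78⟩ := by
            rw [Matrix.mul_apply (M := matK σ (invP k)), Matrix.mul_apply (M := matK σ (invP k)), Finset.mul_sum]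
            exact Finset.sum_congr rfl fun r _ => by rw [ih p (by omega) hp78 r]; ring
        _ = l * matK σ cB i ⟨j + 1, hn⟩ := by rw [hcol]
  refine ⟨l, ?_⟩
  have hCB : C * matK σ cB = l • matK σ cB := Matrix.ext fun i j => hcols j.val j.isLt i
  calc C = C * matK σ cB * matK σ cBi := by rw [mul_assoc, ← matK_pm, m hBBi, matK_one, mul_one]
    _ = l • (1 : Matrix (Fin 78) (Fin 78) K) := by rw [hCB, Matrix.smul_mul, ← matK_pm, m hBBi, matK_one]

end Cfsg.Lib.TwFi
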