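import Cfsg.Agent.TwFi.BaseCheck
import Cfsg.Agent.Chev.Basic

/-!
Generators of the twisted group over any field with four elements from packed matrices.
-/

set_option autoImplicit false

namespace Cfsg.Lib.TwFi

open Cfsg.Lie Cfsg.Lib.PrimeGraph
open scoped Matrix

/-- The matrix on the coordinates. -/
def toI (A : P) : Matrix chevE6.Idx chevE6.Idx KQuad := (mat A).submatrix eqI eqI

theorem toI_pm (A B : P) : toI (pm A B) = toI A * toI B := by
  rw [toI, mat_pm, ← Matrix.submatrix_mul_equiv (mat A) (mat B) eqI eqI eqI]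
  rfl

theorem toI_pa (A B : P) : toI (pa A B) = toI A + toI B := by rw [toI, mat_pa]; rfl

theorem toI_one : toI one = 1 := by rw [toI, mat_one, Matrix.submatrix_one_equiv]

theorem toI_peq {A B : P} (h : peq A B = true) : toI A = toI B := by rw [toI, mat_of_peq h]; rfl

theorem toI_prodP : ∀ l : List P, toI (prodP l) = (l.map toI).prod
  | [] => toI_one
  | A :: l => by rw [prodP, toI_pm, toI_prodP l, List.map_cons, List.prod_cons]

theorem toI_powP (A : P) : ∀ n : ℕ, toI (powP A n) = toI A ^ n
  | 0 => by rw [powP, toI_one, pow_zero]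
  | n + 1 => by rw [powP, toI_pm, toI_powP A n, pow_succ']

theorem toI_base {A : P} {r : ℕ} (hr : r < chevE6.nroots) {t : KQuad}
    (h : ∀ i j : Fin 78, chevE6.xMat KQuad ⟨r, hr⟩ t (eqI.symm i) (eqI.symm j) = ent A i j) :
    toI A = chevE6.x KQuad r t := by
  rw [ChevalleyDatum.x, dif_pos hr]
  ext a b
  have e := h (eqI a) (eqI b)
  rw [Equiv.symm_apply_apply, Equiv.symm_apply_apply] at e
  exact e.symm

/-- A root element by number. -/
def baseAt (k : ℕ) : P := (baseTab.getD k (0, 0, one)).2.2

/-- A root element by number, as a word letter. -/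
def baseLetter (k : ℕ) : ℕ × KQuad := ((baseTab.getD k (0, 0, one)).1, KQuad.ofCode (baseTab.getD k (0, 0, one)).2.1)

theorem toI_baseAt : ∀ k : Fin 20, toI (baseAt k.val) = chevE6.x KQuad (baseLetter k.val).1 (baseLetter k.val).2 := by
  intro k
  fin_cases k
  exacts [toI_base _ base0_ok, toI_base _ base1_ok, toI_base _ base2_ok, toI_base _ base3_ok, toI_base _ base4_ok,
    toI_base _ base5_ok, toI_base _ base6_ok, toI_base _ base7_ok, toI_base _ base8_ok, toI_base _ base9_ok,
    toI_base _ base10_ok, toI_base _ base11_ok, toI_base _ base12_ok, toI_base _ base13_ok, toI_base _ base14_ok,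
    toI_base _ base15_ok, toI_base _ base16_ok, toI_base _ base17_ok, toI_base _ base18_ok, toI_base _ base19_ok]

/-- A generator. -/
def genP (k : ℕ) : P := prodP ((genTab.getD k []).map baseAt)

/-- The word of a generator. -/
def genWord (k : ℕ) : List (ℕ × KQuad) := (genTab.getD k []).map baseLetter

theorem genTab_lt : ∀ k : Fin 12, ∀ l ∈ genTab.getD k.val [], l < 20 := by decide +kernel

theorem toI_genP (k : Fin 12) : toI (genP k.val) = chevE6.wordMat KQuad (genWord k.val) := by
  rw [genP, toI_prodP, ChevalleyDatum.wordMat, genWord, List.map_map, List.map_map]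
  exact congrArg List.prod (List.map_congr_left fun l hl => toI_baseAt ⟨l, genTab_lt k l hl⟩)

theorem gen_shape : ∀ k : Fin 12,
    (∃ r ∈ [e6p2, e6m2, e6p4, e6m4], genWord k.val = [(r, 1)]) ∨
    (∃ t : KQuad, ∃ rs ∈ [(e6p1, e6p6), (e6m1, e6m6), (e6p3, e6p5), (e6m3, e6m5)],
      genWord k.val = [(rs.1, t), (rs.2, t * t)]) := by
  decide +kernel

theorem gen_sq : (List.range 12).all (fun k => peq (pm (genP k) (genP k)) one) = true := by decide +kernel

theorem toI_gen_sq (k : Fin 12) : toI (genP k.val) * toI (genP k.val) = 1 := by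
  rw [← toI_pm, ← toI_one]
  exact toI_peq (List.all_eq_true.1 gen_sq k.val (List.mem_range.2 k.isLt))

/-- A generator as a unit. -/
def genU (k : Fin 12) : GL chevE6.Idx KQuad :=
  ⟨toI (genP k.val), toI (genP k.val), toI_gen_sq k, toI_gen_sq k⟩

variable {K : Type*} [Field K]

/-- Transport of an invertible matrix along a map of fields. -/
abbrev mapI (σ : KQuad →+* K) : GL chevE6.Idx KQuad →* GL chevE6.Idx K := Matrix.GeneralLinearGroup.map σ

theorem genU_mem (σ : KQuad →+* K) (k : Fin 12) : mapI σ (genU k) ∈ twistedE6 K 2 := by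
  refine Subgroup.subset_closure ⟨(genWord k.val).map fun p => (p.1, σ p.2), ?_, ?_⟩
  · rcases gen_shape k with ⟨r, hr, e⟩ | ⟨t, rs, hrs, e⟩ <;> rw [e]
    · exact Or.inl ⟨1, one_pow 2, r, hr, by simp⟩
    · exact Or.inr ⟨σ t, rs, hrs, by simp [map_mul, sq]⟩
  · show (toI (genP k.val)).map σ = _
    rw [toI_genP, ChevalleyDatum.wordMat, ChevalleyDatum.wordMat, List.map_map]
    show σ.mapMatrix _ = _
    rw [map_list_prod, List.map_map]
    exact congrArg List.prod (List.map_congr_left fun p _ => Cfsg.Lib.Chev.Ok.map_x chevE6 σ p.1 p.2)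

end Cfsg.Lib.TwFi
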