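import Cfsg.Agent.TwFi.Gens
import Cfsg.Agent.TwFi.Data
import Cfsg.Agent.FiPres.Simple

/-!
The presented Fischer group inside the twisted group over any field with four elements.
-/

set_option autoImplicit false

namespace Cfsg.Lib.TwFi

open Cfsg.Lie Cfsg.Lib.PrimeGraph Cfsg.Lib.CosetCert
open Cfsg.Lib.FiPres (allWords Good toGrp toGrp_im)

/-- An involution by number. -/
def invP (k : ℕ) : P := invTab.getD k one

/-- An involution as a unit. -/
def invU (k : ℕ) : GL chevE6.Idx KQuad := ((invWords.getD k []).map fun n => genU (Fin.ofNat 12 n)).prod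

theorem inv_tab_ok : (List.range 9).all (fun k => peq (prodP ((invWords.getD k []).map genP)) (invP k) &&
    (invWords.getD k []).all fun n => decide (n < 12)) = true := by decide +kernel

theorem coe_invU {k : ℕ} (hk : k < 9) : (invU k : Matrix chevE6.Idx chevE6.Idx KQuad) = toI (invP k) := by
  have h := List.all_eq_true.1 inv_tab_ok k (List.mem_range.2 hk)
  rw [Bool.and_eq_true, List.all_eq_true] at h
  rw [← toI_peq h.1, toI_prodP, invU, ← Units.coeHom_apply, map_list_prod, List.map_map, List.map_map]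
  refine congrArg List.prod (List.map_congr_left fun n hn => ?_)
  show toI (genP (n % 12)) = toI (genP n)
  rw [Nat.mod_eq_of_lt (decide_eq_true_eq.mp (h.2 n hn))]

theorem words_ok : allWords.all (fun w => peq (prodP (w.map invP)) one && w.all fun l => decide (l < 9)) = true := by
  decide +kernel

theorem good_invU : Good invU := fun w hw => by
  have h := List.all_eq_true.1 words_ok w hw
  rw [Bool.and_eq_true, List.all_eq_true] at h
  refine Units.ext ?_
  rw [Units.val_one, ← toI_one, ← toI_peq h.1, toI_prodP, wval, ← Units.coeHom_apply, map_list_prod, List.map_map,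
    List.map_map]
  exact congrArg List.prod (List.map_congr_left fun l hl => coe_invU (decide_eq_true_eq.mp (h.2 l hl)))

variable {K : Type*} [Field K]

/-- The map into the matrices over the field. -/
noncomputable def fiGL (σ : KQuad →+* K) : Cfsg.Spor.Fi22 →* GL chevE6.Idx K := (mapI σ).comp (toGrp good_invU)

theorem fiGL_im (σ : KQuad →+* K) {k : ℕ} (hk : k < 9) : fiGL σ (Cfsg.Lib.FiPres.im k) = mapI σ (invU k) := by
  rw [fiGL, MonoidHom.comp_apply, toGrp_im good_invU hk]

theorem fiGL_mem (σ : KQuad →+* K) (x : Cfsg.Spor.Fi22) : fiGL σ x ∈ twistedE6 K 2 := by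
  have h : Subgroup.closure (Cfsg.Lib.FiPres.im '' Set.Iio 9) ≤ (twistedE6 K 2).comap (fiGL σ) := by
    refine (Subgroup.closure_le _).2 ?_
    rintro _ ⟨k, hk, rfl⟩
    rw [SetLike.mem_coe, Subgroup.mem_comap, fiGL_im σ hk, invU, map_list_prod, List.map_map]
    refine list_prod_mem fun z hz => ?_
    obtain ⟨n, -, rfl⟩ := List.mem_map.1 hz
    exact genU_mem σ _
  exact h (Cfsg.Lib.FiPres.closure_im ▸ Subgroup.mem_top x)

theorem inv1_ne : ∃ i j : Fin 78, ent (invP 1) i j ≠ (1 : Matrix (Fin 78) (Fin 78) KQuad) i j := by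
  simp only [Matrix.one_apply]
  decide +kernel

theorem fiGL_injective (σ : KQuad →+* K) : Function.Injective (fiGL σ) := by
  haveI := Cfsg.Lib.FiPres.simple_fi
  refine (fiGL σ).ker_eq_bot_iff.1 (((fiGL σ).normal_ker.eq_bot_or_eq_top).resolve_right fun h => ?_)
  have e : fiGL σ (Cfsg.Lib.FiPres.im 1) = 1 := MonoidHom.mem_ker.1 (h ▸ Subgroup.mem_top _)
  rw [fiGL_im σ (by norm_num)] at e
  have e1 : (toI (invP 1)).map σ = (1 : Matrix chevE6.Idx chevE6.Idx K) := by
    rw [← coe_invU (by norm_num)]
    exact congrArg Units.val e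
  obtain ⟨i, j, hne⟩ := inv1_ne
  refine hne (σ.injective ?_)
  have e2 := congrFun (congrFun e1 (eqI.symm i)) (eqI.symm j)
  simp only [Matrix.map_apply, toI, Matrix.submatrix_apply, Equiv.apply_symm_apply] at e2
  rw [show ent (invP 1) i j = mat (invP 1) i j from rfl, e2]
  rcases eq_or_ne i j with rfl | hij
  · simp
  · rw [Matrix.one_apply_ne hij, map_zero, Matrix.one_apply_ne (eqI.symm.injective.ne hij)]

end Cfsg.Lib.TwFi
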