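import Mathlib
import Cfsg.Agent.PrimeGraph.FieldFour

/-!
Square matrices of size 78 over the field with four elements, packed into two natural numbers, row after row.
-/

set_option autoImplicit false
set_option exponentiation.threshold 10000

namespace Cfsg.Lib.TwFi

open Cfsg.Lib.PrimeGraph

/-- One bit at the foot of each of the first rows. -/
def colN : ℕ → ℕ
  | 0 => 0
  | n + 1 => 1 + 2 ^ 78 * colN n

/-- One bit at the foot of each row. -/
def col : ℕ := (2 ^ (78 * 78) - 1) / (2 ^ 78 - 1)

/-- A product by one column of the left factor. -/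
def term (A B i : ℕ) : ℕ :=
  Nat.mul (Nat.land (Nat.shiftRight A i) col) (Nat.land (Nat.shiftRight B (Nat.mul 78 i)) 0x3fffffffffffffffffff)

/-- The sum of the first products by columns. -/
def mulN (A B : ℕ) : ℕ → ℕ
  | 0 => 0
  | n + 1 => Nat.xor (mulN A B n) (term A B n)

theorem col_eq : col = colN 78 := by decide +kernel

theorem spread_testBit : ∀ (n A r j k : ℕ), r < 2 ^ 78 → k < 78 →
    ((A &&& colN n) * r).testBit (78 * j + k) = (decide (j < n) && A.testBit (78 * j) && r.testBit k)
  | 0, A, r, j, k, _, _ => by simp [colN]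
  | n + 1, A, r, j, k, hr, hk => by
    have hdec : A &&& colN (n + 1) = A % 2 + 2 ^ 78 * ((A / 2 ^ 78) &&& colN n) := by
      refine Nat.eq_of_testBit_eq fun q => ?_
      have h1 : A % 2 < 2 ^ 78 := lt_of_lt_of_le (Nat.mod_lt _ (by norm_num)) (by norm_num)
      rw [Nat.testBit_and, colN, add_comm (A % 2) _, add_comm 1 _,
        Nat.testBit_two_pow_mul_add _ (by norm_num : 1 < 2 ^ 78), Nat.testBit_two_pow_mul_add _ h1]
      split_ifs with hq
      · rcases q with _ | q
        · simp [Nat.testBit_zero]
        · have e : A % 2 / 2 = 0 := by omega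
          simp [Nat.testBit_succ, e]
      · rw [Nat.testBit_and, Nat.testBit_div_two_pow, Nat.sub_add_cancel (Nat.le_of_not_lt hq)]
    have hlow : A % 2 * r < 2 ^ 78 := by
      rcases Nat.mod_two_eq_zero_or_one A with h | h <;> rw [h] <;> simp only [Nat.zero_mul, Nat.one_mul] <;> omega
    rw [hdec, add_mul, mul_assoc, add_comm, Nat.testBit_two_pow_mul_add _ hlow]
    rcases j with _ | j
    · rw [if_pos (by omega)]
      rcases Nat.mod_two_eq_zero_or_one A with h | h <;> simp [h, Nat.testBit_zero]
    · rw [if_neg (by omega), show 78 * (j + 1) + k - 78 = 78 * j + k by omega, spread_testBit n _ r j k hr hk,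
        Nat.testBit_div_two_pow, show 78 * (j + 1) = 78 * j + 78 by omega]
      simp

theorem term_testBit (A B i : ℕ) (j k : Fin 78) :
    (term A B i).testBit (78 * j.val + k.val) =
      (A.testBit (78 * j.val + i) && B.testBit (78 * i + k.val)) := by
  show ((A >>> i &&& col) * (B >>> (78 * i) &&& 0x3fffffffffffffffffff)).testBit _ = _
  rw [show (0x3fffffffffffffffffff : ℕ) = 2 ^ 78 - 1 by norm_num, Nat.and_two_pow_sub_one_eq_mod, col_eq,
    spread_testBit 78 _ _ j k (Nat.mod_lt _ (by norm_num)) k.2, Nat.testBit_shiftRight, Nat.testBit_mod_two_pow,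
    Nat.testBit_shiftRight]
  simp [Nat.add_comm i]

/-- A bit as an element. -/
def bit (b : Bool) : KQuad := if b then 1 else 0

/-- The matrix of one plane. -/
def pl (A : ℕ) : Matrix (Fin 78) (Fin 78) KQuad := Matrix.of fun j i => bit (A.testBit (78 * j.val + i.val))

theorem mulN_entry (A B : ℕ) (j k : Fin 78) : ∀ n : ℕ,
    bit ((mulN A B n).testBit (78 * j.val + k.val)) =
      ∑ i ∈ Finset.range n, bit (A.testBit (78 * j.val + i)) * bit (B.testBit (78 * i + k.val))
  | 0 => by simp [mulN, bit]
  | n + 1 => by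
    rw [Finset.sum_range_succ, ← mulN_entry A B j k n, mulN, show Nat.xor _ _ = mulN A B n ^^^ term A B n from rfl,
      Nat.testBit_xor, term_testBit]
    cases (mulN A B n).testBit (78 * j.val + k.val) <;> cases A.testBit (78 * j.val + n) <;>
      cases B.testBit (78 * n + k.val) <;> decide +kernel

theorem pl_mul (A B : ℕ) : pl (mulN A B 78) = pl A * pl B := by
  ext j k
  rw [Matrix.mul_apply, pl, Matrix.of_apply, mulN_entry, Finset.sum_range]
  simp only [pl, Matrix.of_apply]

theorem pl_xor (A B : ℕ) : pl (A ^^^ B) = pl A + pl B := by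
  ext j k
  rw [Matrix.add_apply, pl, Matrix.of_apply, Nat.testBit_xor]
  simp only [pl, Matrix.of_apply]
  cases A.testBit (78 * j.val + k.val) <;> cases B.testBit (78 * j.val + k.val) <;> decide +kernel

/-- The third element of the field. -/
def om : KQuad := KQuad.ofCode 2

theorem om_sq : om * om = 1 + om := by decide +kernel

/-- A packed matrix: two planes. -/
abbrev P := ℕ × ℕ

/-- The matrix of a packed matrix. -/
def mat (A : P) : Matrix (Fin 78) (Fin 78) KQuad := pl A.1 + om • pl A.2

/-- The product. -/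
def pm (A B : P) : P :=
  let p := mulN A.1 B.1 78
  let q := mulN A.2 B.2 78
  let r := mulN (Nat.xor A.1 A.2) (Nat.xor B.1 B.2) 78
  (Nat.xor p q, Nat.xor r p)

/-- The sum. -/
def pa (A B : P) : P := (Nat.xor A.1 B.1, Nat.xor A.2 B.2)

/-- The identity. -/
def one : P := ((2 ^ (79 * 78) - 1) / (2 ^ 79 - 1), 0)

theorem mat_pa (A B : P) : mat (pa A B) = mat A + mat B := by
  show pl (A.1 ^^^ B.1) + om • pl (A.2 ^^^ B.2) = _
  rw [pl_xor, pl_xor, mat, mat, smul_add]
  abel

theorem mat_pm (A B : P) : mat (pm A B) = mat A * mat B := by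
  show pl (mulN A.1 B.1 78 ^^^ mulN A.2 B.2 78) +
    om • pl (mulN (A.1 ^^^ A.2) (B.1 ^^^ B.2) 78 ^^^ mulN A.1 B.1 78) = _
  rw [pl_xor, pl_xor, pl_mul, pl_mul, pl_mul, pl_xor, pl_xor, mat, mat]
  set a := pl A.1
  set a' := pl A.2
  set b := pl B.1
  set b' := pl B.2
  have e : (a + om • a') * (b + om • b') = a * b + om • (a * b') + (om • (a' * b) + (1 + om) • (a' * b')) := by
    rw [add_mul, mul_add, mul_add, Matrix.mul_smul, Matrix.smul_mul, Matrix.smul_mul, Matrix.mul_smul, smul_smul, om_sq]
  rw [e, add_mul a a', mul_add a, mul_add a', add_smul (1 : KQuad) om, one_smul]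
  simp only [smul_add]
  have h2 : om • (a * b) + om • (a * b) = 0 := by rw [← add_smul, CharTwo.add_self_eq_zero, zero_smul]
  calc a * b + a' * b' + (om • (a * b) + om • (a * b') + (om • (a' * b) + om • (a' * b')) + om • (a * b))
      = a * b + a' * b' + (om • (a * b') + om • (a' * b) + om • (a' * b')) + (om • (a * b) + om • (a * b)) := by abel
    _ = a * b + om • (a * b') + (om • (a' * b) + (a' * b' + om • (a' * b'))) := by rw [h2, add_zero]; abel

theorem one_bits : (∀ j i : Fin 78, one.1.testBit (78 * j.val + i.val) = decide (j = i)) ∧ one.2 = 0 := by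
  decide +kernel

theorem mat_one : mat one = 1 := by
  ext j i
  rw [mat, one_bits.2, Matrix.add_apply, Matrix.smul_apply, pl, pl, Matrix.of_apply, Matrix.of_apply,
    one_bits.1 j i, Matrix.one_apply]
  simp [bit]

/-- A product of packed matrices. -/
def prodP : List P → P
  | [] => one
  | A :: l => pm A (prodP l)

theorem mat_prodP : ∀ l : List P, mat (prodP l) = (l.map mat).prod
  | [] => mat_one
  | A :: l => by rw [prodP, mat_pm, mat_prodP l, List.map_cons, List.prod_cons]

/-- A power. -/
def powP (A : P) : ℕ → P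
  | 0 => one
  | n + 1 => pm A (powP A n)

theorem mat_powP (A : P) : ∀ n : ℕ, mat (powP A n) = mat A ^ n
  | 0 => by rw [powP, mat_one, pow_zero]
  | n + 1 => by rw [powP, mat_pm, mat_powP A n, pow_succ']

theorem eq_of_beq' {A B : P} (h : ((A.1 == B.1) && (A.2 == B.2)) = true) : A = B := by
  rw [Bool.and_eq_true, beq_iff_eq, beq_iff_eq] at h
  exact Prod.ext h.1 h.2

/-- Equality of packed matrices. -/
def peq (A B : P) : Bool := (A.1 == B.1) && (A.2 == B.2)

theorem mat_of_peq {A B : P} (h : peq A B = true) : mat A = mat B := congrArg mat (eq_of_beq' h)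

end Cfsg.Lib.TwFi
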